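import Cfsg.Agent.Lib.L3Z.TriB

/-! Standard `L₃(3)`, the sieve (plans/L3Z.md): copies of SL₂(q). -/

set_option autoImplicit false
set_option linter.unusedSectionVars false

namespace CfsgLib.L3Z

open Subgroup Cfsg CfsgLib.Tech CfsgLib.L33 CfsgLib.Sect
open scoped MatrixGroups commutatorElement

variable {G : Type*} [Group G] [Finite G] {K : Subgroup G} {z z' : G} {E F : Type} [Field E] [Fintype E] [Field F] [Fintype F]
  {f : SL(2, F) →* G}

theorem Cp.conj [K.Normal] (h : Cp K z f) (g : G) : Cp K (g * z * g⁻¹) ((MulAut.conj g).toMonoidHom.comp f) := by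
  have hn : K.Normal := inferInstance
  refine ⟨(MulAut.conj g).injective.comp h.inj, ?_, fun a => ?_, fun k hk hz a => ?_⟩
  · show g * f (-1) * g⁻¹ = _
    rw [h.neg]
  · exact hn.conj_mem _ (h.le a) g
  · have h1 : g⁻¹ * k * g ∈ K := by simpa using hn.conj_mem _ hk g⁻¹
    have h2 : g⁻¹ * k * g * z = z * (g⁻¹ * k * g) := by
      calc g⁻¹ * k * g * z = g⁻¹ * (k * (g * z * g⁻¹)) * g := by group
        _ = g⁻¹ * (g * z * g⁻¹ * k) * g := by rw [hz]
        _ = _ := by group
    obtain ⟨b, hb⟩ := h.sq _ h1 h2 a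
    refine ⟨b, ?_⟩
    show k * k * (g * f a * g⁻¹) * (k * k)⁻¹ = g * f b * g⁻¹
    rw [← hb]; group

theorem Cp.map {z : K} {f : SL(2, F) →* K} (h : Cp ⊤ z f) : Cp K (z : G) (K.subtype.comp f) := by
  refine ⟨Subtype.val_injective.comp h.inj, ?_, fun a => (f a).2, fun k hk hz a => ?_⟩
  · show ((f (-1) : K) : G) = _
    rw [h.neg]
  · obtain ⟨b, hb⟩ := h.sq ⟨k, hk⟩ (mem_top _) (Subtype.ext hz) a
    exact ⟨b, congrArg Subtype.val hb⟩

theorem Cp.equiv {X : Type*} [Group X] {z : X} {f : SL(2, F) →* X} (h : Cp ⊤ z f) (e : X ≃* G) :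
    Cp ⊤ (e z) (e.toMonoidHom.comp f) := by
  refine ⟨e.injective.comp h.inj, ?_, fun a => mem_top _, fun k _ hz a => ?_⟩
  · show e (f (-1)) = _
    rw [h.neg]
  · obtain ⟨k, rfl⟩ := e.surjective k
    obtain ⟨b, hb⟩ := h.sq k (mem_top _) (e.injective (by rw [map_mul, map_mul]; exact hz)) a
    refine ⟨b, ?_⟩
    show e k * e k * e (f a) * (e k * e k)⁻¹ = e (f b)
    rw [← hb]; simp

theorem Cp.sq_norm (h : Cp K z f) {g : G} (h1 : g ∈ K) (h2 : g * z = z * g) : g * g ∈ normalizer (f.range : Set G) := by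
  refine mem_normalizer_fintype ?_
  rintro _ ⟨a, rfl⟩
  obtain ⟨b, hb⟩ := h.sq g h1 h2 a
  exact ⟨b, hb.symm⟩

/-- an element of odd order is a square of one of its powers -/
theorem Cp.odd_norm (h : Cp K z f) {g : G} (h1 : g ∈ K) (h2 : g * z = z * g) (ho : Odd (orderOf g)) :
    g ∈ normalizer (f.range : Set G) := by
  obtain ⟨m, hm⟩ := ho
  have e : g ^ (m + 1) * g ^ (m + 1) = g := by
    rw [← pow_add, show m + 1 + (m + 1) = orderOf g + 1 by omega, pow_succ, pow_orderOf_eq_one, one_mul]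
  rw [← e]
  exact h.sq_norm (K.pow_mem h1 _) ((show Commute g z from h2).pow_left _)

/-- a subgroup containing all squares contains the commutator subgroup -/
theorem comm_le_of_sq {X : Type*} [Group X] {N : Subgroup X} (h : ∀ a, a * a ∈ N) : commutator X ≤ N := by
  rw [commutator_def, commutator_le]
  intro a _ b _
  have e : ⁅a, b⁆ = (a * b) * (a * b) * ((b⁻¹ * a⁻¹ * b) * (b⁻¹ * a⁻¹ * b)) * (b⁻¹ * b⁻¹) := by
    rw [commutatorElement_def]; group
  rw [e]
  exact N.mul_mem (N.mul_mem (h _) (h _)) (h _)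

/-- PROOF: a perfect group is generated by squares (`g⁻¹ N(f.range)` is normal, contains the squares, so the commutators). -/
theorem Cp.range_norm (h : Cp K z f) (h3 : 3 < Fintype.card E) (g : SL(2, E) →* G) (h1 : ∀ a, g a ∈ K)
    (h2 : ∀ a, g a * z = z * g a) : g.range ≤ normalizer (f.range : Set G) := by
  have hN : commutator SL(2, E) ≤ (normalizer (f.range : Set G)).comap g := comm_le_of_sq fun a => by
    rw [mem_comap, map_mul]
    exact h.sq_norm (h1 a) (h2 a)
  rw [ABG.St.sl2_perfect h3] at hN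
  rintro _ ⟨a, rfl⟩
  exact hN (mem_top a)

/-- PROOF: `f⁻¹ (g.range)` is normal in `SL₂(F)`: all (then cardinalities) or central (`ABG.sl2_normal`); in the second case
`a ↦ [f a, g b]` is a homomorphism to the centre, trivial by perfectness. -/
theorem eq_or_comm (h3 : 3 < Fintype.card F) {f g : SL(2, F) →* G} (hf : Function.Injective f) (hg : Function.Injective g)
    (h1 : f.range ≤ normalizer (g.range : Set G)) (h2 : g.range ≤ normalizer (f.range : Set G)) :
    f.range = g.range ∨ ∀ a b, f a * g b = g b * f a := by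
  have hN : (g.range.comap f).Normal := ⟨fun n hn a => by
    rw [mem_comap, map_mul, map_mul, map_inv]
    exact (mem_normalizer_iff.1 (h1 ⟨a, rfl⟩) _).1 hn⟩
  rcases ABG.St.sl2_normal h3 _ hN with ht | hc
  · left
    have hle : f.range ≤ g.range := by
      rintro _ ⟨a, rfl⟩
      have : a ∈ g.range.comap f := ht ▸ mem_top a
      exact this
    refine eq_of_le_of_card_ge hle (le_of_eq ?_)
    rw [← Nat.card_congr (f.ofInjective hf).toEquiv, ← Nat.card_congr (g.ofInjective hg).toEquiv]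
  · right
    have k1 : ⁅f.range, g.range⁆ ≤ centralizer (f.range : Set G) := by
      rw [commutator_le]
      rintro _ ⟨a, rfl⟩ _ ⟨b, rfl⟩
      have m1 : ⁅f a, g b⁆ ∈ f.range := by
        have e : ⁅f a, g b⁆ = f a * (g b * (f a)⁻¹ * (g b)⁻¹) := by rw [commutatorElement_def]; group
        rw [e]
        exact f.range.mul_mem ⟨a, rfl⟩ ((mem_normalizer_iff.1 (h2 ⟨b, rfl⟩) _).1 (f.range.inv_mem ⟨a, rfl⟩))
      have m2 : ⁅f a, g b⁆ ∈ g.range := by
        rw [commutatorElement_def]
        exact g.range.mul_mem ((mem_normalizer_iff.1 (h1 ⟨a, rfl⟩) _).1 ⟨b, rfl⟩) (g.range.inv_mem ⟨b, rfl⟩)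
      obtain ⟨c, hc'⟩ := m1
      have hcz : c ∈ center SL(2, F) := hc (show f c ∈ g.range from hc' ▸ m2)
      rw [← hc', mem_centralizer_iff]
      rintro _ ⟨d, rfl⟩
      rw [← map_mul, ← map_mul, mem_center_iff.1 hcz d]
    have k2 : ⁅⁅f.range, g.range⁆, f.range⁆ = ⊥ := commutator_eq_bot_iff_le_centralizer.2 k1
    have k3 : ⁅⁅g.range, f.range⁆, f.range⁆ = ⊥ := by rw [commutator_comm g.range]; exact k2
    have k4 := commutator_commutator_eq_bot_of_rotate k2 k3
    have k5 : ⁅f.range, f.range⁆ = f.range := by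
      conv_lhs => rw [MonoidHom.range_eq_map, ← map_commutator, ← commutator_def, ABG.St.sl2_perfect h3, ← MonoidHom.range_eq_map]
    rw [k5, commutator_eq_bot_iff_le_centralizer] at k4
    intro a b
    exact (mem_centralizer_iff.1 (k4 ⟨a, rfl⟩) _ ⟨b, rfl⟩).symm

theorem exists_act (hf : Function.Injective f) : ∃ φ : normalizer (f.range : Set G) →* MulAut SL(2, F),
    ∀ g a, f (φ g a) = g * f a * (g : G)⁻¹ := by
  let e := f.ofInjective hf
  have he : ∀ x : f.range, f (e.symm x) = x := fun x => MonoidHom.apply_ofInjective_symm hf x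
  refine ⟨(MulAut.congr e.symm).toMonoidHom.comp f.range.normalizerMonoidHom, fun g a => ?_⟩
  show f (e.symm (f.range.normalizerMonoidHom g (e a))) = _
  rw [he]
  rfl

/-- PROOF: `Cp.conj`, `range_norm` twice, `eq_or_comm`. -/
theorem Cp.norm_or [K.Normal] (h : Cp K z f) (h3 : 3 < Fintype.card F) {g : G} (hg : g * z = z * g) :
    g ∈ normalizer (f.range : Set G) ∨ ∀ a b, f a * (g * f b * g⁻¹) = g * f b * g⁻¹ * f a := by
  have h' := h.conj g
  rw [hg, mul_inv_cancel_right] at h'
  have c : ∀ {f : SL(2, F) →* G}, Cp K z f → ∀ a, f a * z = z * f a := fun {f} h a => by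
    rw [← h.neg, ← map_mul, ← map_mul, mul_neg, neg_mul, mul_one, one_mul]
  rcases eq_or_comm h3 h.inj h'.inj (h'.range_norm h3 f h.le (c h)) (h.range_norm h3 _ h'.le (c h')) with e | e
  · left
    refine mem_normalizer_fintype ?_
    rintro _ ⟨a, rfl⟩
    have : g * f a * g⁻¹ ∈ ((MulAut.conj g).toMonoidHom.comp f).range := ⟨a, rfl⟩
    rw [← e] at this
    exact this
  · exact Or.inr e

/-- PROOF: `norm_or`; otherwise `a ↦ f a * (s * f a * s⁻¹)` is a homomorphism into `C(s, z)`, trivial by `not_solv`, so every `f a`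
lies in the conjugate and is central. -/
theorem Cp.norm_inv [K.Normal] (h : Cp K z f) (h3 : 3 < Fintype.card F) {s : G} (hs : s * s = 1) (hz : s * z = z * s)
    (sol : Group.IsSolvable (centralizer {s, z} : Subgroup G)) : s ∈ normalizer (f.range : Set G) := by
  rcases h.norm_or h3 hz with e | e
  · exact e
  have c : ∀ a, f a * z = z * f a := fun a => by
    rw [← h.neg, ← map_mul, ← map_mul, mul_neg, neg_mul, mul_one, one_mul]
  have si : s⁻¹ = s := inv_eq_of_mul_eq_one_right hs
  let d : SL(2, F) →* G := MonoidHom.mk' (fun a => f a * (s * f a * s⁻¹)) fun a b => by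
    rw [map_mul]
    calc f a * f b * (s * (f a * f b) * s⁻¹) = f a * (f b * (s * f a * s⁻¹)) * (s * f b * s⁻¹) := by group
      _ = f a * (s * f a * s⁻¹ * f b) * (s * f b * s⁻¹) := by rw [e]
      _ = _ := by group
  have hd : ∀ a, d a ∈ (centralizer {s, z} : Subgroup G) := fun a => by
    rw [mem_centralizer_iff]
    intro y hy
    show y * (f a * (s * f a * s⁻¹)) = f a * (s * f a * s⁻¹) * y
    rcases hy with rfl | hy
    · calc y * (f a * (y * f a * y⁻¹)) = y * (y * f a * y⁻¹ * f a) := by rw [e]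
        _ = (y * y) * f a * y⁻¹ * f a := by group
        _ = f a * y * f a := by rw [hs, si, one_mul]
        _ = _ := by group
    · rw [Set.mem_singleton_iff.1 hy]
      have c1 : Commute z (f a) := (c a).symm
      have c2 : Commute z s := hz.symm
      exact (c1.mul_right ((c2.mul_right c1).mul_right c2.inv_right)).eq
  refine mem_normalizer_fintype ?_
  rintro _ ⟨a, rfl⟩
  have h1 : f a * (s * f a * s⁻¹) = 1 := not_solv h3 d sol hd a
  rw [eq_inv_of_mul_eq_one_right h1]
  exact f.range.inv_mem ⟨a, rfl⟩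

end CfsgLib.L3Z
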