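import Mathlib
import Cfsg.Agent.Lib.L33.Defs
import Cfsg.Agent.Lib.GHE.Defs

/-! Standard `L₃(3)`, the sieve of the groups of sectional rank at most 4 (plans/L3Z.md): definitions. -/

set_option autoImplicit false

namespace CfsgLib.L3Z

open Subgroup Cfsg CfsgLib.Tech CfsgLib.L33
open scoped MatrixGroups

variable {G : Type*} [Group G]

/-- a copy of `SL₂(F)` in `K` with centre `⟨z⟩`, normalised by the squares of `C_K(z)` -/
structure Cp (K : Subgroup G) (z : G) {F : Type*} [Field F] (f : SL(2, F) →* G) : Prop where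
  inj : Function.Injective f
  neg : f (-1) = z
  le : ∀ a, f a ∈ K
  sq : ∀ h ∈ K, h * z = z * h → ∀ a, ∃ b, h * h * f a * (h * h)⁻¹ = f b

/-- every involution is the centre of a copy of `SL₂(q)` -/
def One (X : Type*) [Group X] (q : ℕ) : Prop :=
  ∃ (F : Type) (_ : Field F) (_ : Fintype F), Fintype.card F = q ∧
    ∀ z : X, orderOf z = 2 → ∃ f : SL(2, F) →* X, Cp ⊤ z f

/-- `z` is the centre of commuting copies of `SL₂(q)` and `SL₂(r)` -/
def TwoAt (K : Subgroup G) (z : G) (q r : ℕ) : Prop :=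
  ∃ (E F : Type) (_ : Field E) (_ : Fintype E) (_ : Field F) (_ : Fintype F), Fintype.card E = q ∧ Fintype.card F = r ∧
    ∃ (f : SL(2, E) →* G) (g : SL(2, F) →* G), Cp K z f ∧ Cp K z g ∧ ∀ a b, f a * g b = g b * f a

/-- some 2-central involution is the centre of commuting copies of `SL₂(q)` and `SL₂(r)` -/
def Two (X : Type*) [Group X] (q r : ℕ) : Prop :=
  ∃ z : X, Odd (centralizer {z}).index ∧ TwoAt ⊤ z q r

/-- the local facts -/
structure Kx (K L : Subgroup G) (D : Fr G) (ρ θ b : G) : Prop where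
  nrm : K.Normal
  LK : L ≤ K
  xL : D.x ∈ L
  eL : D.e ∈ L
  ρL : ρ ∈ L
  θL : θ ∈ L
  Lt : ∀ l ∈ L, l * D.t = D.t * l
  ρo : Odd (orderOf ρ)
  ρy : ρ * D.y * ρ⁻¹ = D.i
  ρi : ρ * D.i * ρ⁻¹ = D.y * D.i
  θz : θ * D.z * θ⁻¹ = D.e
  θe : θ * D.e * θ⁻¹ = D.e * D.z
  bz : b * D.z = D.z * b
  bt : b * D.t * b⁻¹ = D.t * D.e
  sol : Group.IsSolvable (centralizer {D.t, D.z} : Subgroup G)
  odd : ∀ w, Odd (orderOf w) → w * D.t = D.t * w → w * D.y = D.y * w → w * D.i = D.i * w → ∀ l ∈ L, w * l = l * w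

section sl

variable {F : Type} [Field F]

/-- the automorphism is induced by a matrix -/
def Lin (α : MulAut SL(2, F)) : Prop := ∃ A : GL (Fin 2) F, ∀ s : SL(2, F), (α s).1 * A.1 = A.1 * s.1

/-- the automorphism is induced by a matrix of trace zero -/
def Tor (α : MulAut SL(2, F)) : Prop :=
  ∃ A : GL (Fin 2) F, A.1.trace = 0 ∧ ∀ s : SL(2, F), (α s).1 * A.1 = A.1 * s.1

/-- the fixed points form a copy of `SL₂(√q)` -/
def Fld [Fintype F] (α : MulAut SL(2, F)) : Prop :=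
  ∃ (E : Type) (_ : Field E) (_ : Fintype E) (g : SL(2, E) →* SL(2, F)), Fintype.card F = Fintype.card E ^ 2 ∧
    Function.Injective g ∧ ∀ s, α s = s ↔ s ∈ g.range

/-- a quaternion subgroup of the copy lies in `D.L` -/
def Fq (D : Fr G) (f : SL(2, F) →* G) : Prop :=
  ∃ a b : SL(2, F), f a ∈ D.L ∧ f b ∈ D.L ∧ a * a = -1 ∧ b * b = -1 ∧ a * b = -(b * a)

end sl

end CfsgLib.L3Z
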