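import Cfsg.Agent.Lib.L3Z.Defs
import Cfsg.Agent.Lib.GHE.Wrap
import Cfsg.Agent.Lib.GHE.Rk2
import Cfsg.Agent.Lib.Symp.Order
import Cfsg.Agent.S0243

/-! Standard `L₃(3)`, the sieve (plans/L3Z.md): orders. -/

set_option autoImplicit false
set_option linter.unusedSectionVars false

namespace CfsgLib.L3Z

open Subgroup Cfsg CfsgLib.Tech CfsgLib.L33 CfsgLib.Sect
open scoped MatrixGroups commutatorElement

variable {X : Type*} [Group X] [Finite X] {F : Type} [Field F] [Fintype F]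

theorem ord_tr {Y : Type*} [Group Y] {n : ℕ} (e : Nat.card Y = n) (f : Nonempty (X ≃* Y)) : Nat.card X = n :=
  f.elim fun f => (Nat.card_congr f.toEquiv).trans e

theorem ord_il {n q : ℕ} (hn : 2 ≤ n) (hF : Fintype.card F = q)
    (f : Nonempty (X ≃* Matrix.ProjectiveSpecialLinearGroup (Fin n) F)) :
    Nat.gcd n (q - 1) * ((q - 1) * Nat.card X) = ∏ i ∈ Finset.range n, (q ^ n - q ^ i) := by
  rw [ord_tr rfl f, Cfsg.Agent.S0243.result hF n hn, Finset.prod_range]

theorem ord_iu {n q : ℕ} (hn : 2 ≤ n) (hF : Fintype.card F = q ^ 2) (f : Nonempty (X ≃* PSU n F q)) :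
    Nat.gcd n (q + 1) * ((q + 1) * Nat.card X) = q ^ (n * (n - 1) / 2) *
      ∏ i ∈ Finset.range n, (if Even i then q ^ (i + 1) + 1 else q ^ (i + 1) - 1) := by
  rw [ord_tr rfl f, Unitary.card_PSU hF hn]

theorem ord_alt {n : ℕ} (h2 : 2 ≤ n) (e : Nonempty (X ≃* alternatingGroup (Fin n))) :
    Nat.card X = n.factorial / 2 := by
  have : Nontrivial (Fin n) := Fin.nontrivial_iff_two_le.2 h2
  rw [ord_tr rfl e, nat_card_alternatingGroup]
  simp

/-- PROOF: orders as in `GHE.Ctx.final` (`16 ∤` for `E8T`: a Sylow 2-subgroup has order 8; `13 ∤` or `27 ∤` otherwise). -/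
theorem ord_small (h : 5616 ∣ Nat.card X) : ¬ (GHE.E8T X ∨ GHE.Sz8 X ∨ GHE.IL 2 (· = 16) X ∨ GHE.IL 3 (· = 4) X ∨ GHE.Alt X ∨
    GHE.Spo X ∨ Spor.IsoM12 X ∨ GHE.IU 3 (· = 4) X ∨ Nonempty (X ≃* alternatingGroup (Fin 7)) ∨ IsM11 X) := by
  have k : ∀ n, Nat.card X = n → 5616 ∣ n := fun n e => e ▸ h
  rintro (⟨l, -⟩ | ⟨F, _, _, h1, e⟩ | ⟨F, _, _, h1, e⟩ | ⟨F, _, _, h1, e⟩ | ⟨n, h1, h2, e⟩ |
    (l | l | l | ⟨F, _, _, ω, h1, h2, e⟩ | l | l | ⟨-, l⟩) | l | ⟨F, _, _, q, h1, rfl, e⟩ | l | l)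
  · obtain ⟨S⟩ : Nonempty (Sylow 2 X) := inferInstance
    have h1 := (l _ (IsSylowIn.of_sylow_top S)).2
    have h2 := S.not_dvd_index
    have h3 := (S : Subgroup X).card_mul_index
    rw [h1] at h3
    omega
  · exact absurd (k _ (ord_tr (Cfsg.Agent.S1163.result (F := F) (m := 1) le_rfl h1).1 e)) (by norm_num)
  · have := ord_il le_rfl h1 e
    simp only [Finset.prod_range_succ, Finset.prod_range_zero] at this
    norm_num at this
    omega
  · have := ord_il (by norm_num) h1 e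
    simp only [Finset.prod_range_succ, Finset.prod_range_zero] at this
    norm_num at this
    omega
  · have := k _ (ord_alt (by omega) e)
    interval_cases n <;> exact absurd this (by decide)
  · exact absurd (k _ (ord_tr Mathieu.card_M22 l)) (by norm_num)
  · exact absurd (k _ (ord_tr Mathieu.card_M23 l)) (by norm_num)
  · exact absurd (k _ (ord_tr J2.card_J2 l)) (by norm_num)
  · exact absurd (k _ (ord_tr (Cfsg.Agent.S1625.result F h1 ω h2).2.2.1 e)) (by norm_num)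
  · exact absurd (k _ (ord_tr Leech.spor_McL.2 l)) (by norm_num)
  · exact absurd (k _ (ord_tr Ly.card_eq l)) (by norm_num)
  · exact absurd (k _ l.2) (by norm_num)
  · exact absurd (k _ (ord_tr Mathieu.card_M12 l)) (by norm_num)
  · have := ord_iu (by norm_num) h1 e
    simp only [Finset.prod_range_succ, Finset.prod_range_zero] at this
    norm_num at this
    omega
  · exact absurd (k _ (ord_alt (by norm_num) l)) (by decide)
  · exact absurd (k _ l.2) (by norm_num)

/-- PROOF: the order formulas (S0243 and its neighbours for `PSU`, `PSp`). -/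
theorem ord_lie (h : 5616 ∣ Nat.card X) (h' : Nat.card X ≠ 5616) : ¬ (GHE.IL 3 (fun q => q = 3 ∨ q = 5) X ∨
    GHE.IU 3 (fun q => q = 3 ∨ q = 5 ∨ q = 9) X ∨ GHE.IU 4 (· = 3) X ∨
      ∃ (F : Type) (_ : Field F) (_ : Fintype F), Fintype.card F = 3 ∧ Nonempty (X ≃* PSp 2 F)) := by
  rintro (⟨F, _, _, h1 | h1, e⟩ | ⟨F, _, _, q, h1, rfl | rfl | rfl, e⟩ | ⟨F, _, _, q, h1, rfl, e⟩ | ⟨F, _, _, h1, e⟩)
  iterate 2
    have := ord_il (by norm_num) h1 e
    simp only [Finset.prod_range_succ, Finset.prod_range_zero] at this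
    norm_num at this
    omega
  iterate 4
    have := ord_iu (by norm_num) h1 e
    simp only [Finset.prod_range_succ, Finset.prod_range_zero] at this
    norm_num [Nat.even_iff] at this
    omega
  have := Symp.card_PSp (F := F) (m := 2) (by norm_num)
  rw [← ord_tr rfl e, h1] at this
  simp only [Finset.prod_range_succ, Finset.prod_range_zero] at this
  norm_num at this
  omega

/-- PROOF: `⟨y, i⟩` is a 2-group (order 8); the Sylow 2-subgroups are dihedral (see `GHE.rk_psl2`), elements of order 4 lie in the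
cyclic subgroup (`IsDih.mem_zpowers_of_sq_ne_one`). -/
theorem no_psl2 (hF : Odd (Fintype.card F)) (e : X ≃* Matrix.ProjectiveSpecialLinearGroup (Fin 2) F) {y i : X}
    (h1 : y * y = i * i) (h2 : y * y ≠ 1) (h3 : y ^ 4 = 1) (h4 : i * y = y * i * (y * y)) : False := by
  have k0 : i * y * i⁻¹ = y * (y * y) := by
    rw [h4, h1]; group
  have k1 : IsPGroup 2 (zpowers y) := isPGroup_zpowers_of_pow (k := 2) h3
  have k2 : IsPGroup 2 (zpowers i) := isPGroup_zpowers_of_pow (k := 2) (by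
    rw [show 2 ^ 2 = 2 * 2 from rfl, pow_mul, pow_two i, ← h1, ← pow_two, ← pow_mul]; exact h3)
  have k3 : IsPGroup 2 (zpowers y ⊔ zpowers i : Subgroup X) := k1.to_sup_of_normal_left' k2
    (zpowers_le.2 (mem_normalizer_fintype fun x hx => by
      obtain ⟨n, rfl⟩ := mem_zpowers_iff.1 hx
      rw [← conj_zpow, k0]
      exact zpow_mem (mul_mem (mem_zpowers y) (mul_mem (mem_zpowers y) (mem_zpowers y))) n))
  obtain ⟨S, n, r, s, -, d⟩ := GHA.S2.dihSylow hF
  obtain ⟨Q, hQ⟩ := (k3.map e.toMonoidHom).exists_le_sylow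
  obtain ⟨g, rfl⟩ := MulAction.exists_smul_eq (Matrix.ProjectiveSpecialLinearGroup (Fin 2) F) Q S
  have key : ∀ x ∈ zpowers y ⊔ zpowers i, x * x ≠ 1 → g * e x * g⁻¹ ∈ zpowers r := fun x hx h =>
    d.mem_zpowers_of_sq_ne_one (smul_mem_pointwise_smul _ (MulAut.conj g) _ (hQ (mem_map_of_mem _ hx))) fun e1 => h (by
      rwa [conj_mul, conj_eq_one_iff, ← map_mul, MulEquiv.map_eq_one_iff] at e1)
  obtain ⟨a, ha⟩ := mem_zpowers_iff.1 (key y (mem_sup_left (mem_zpowers y)) h2)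
  obtain ⟨b, hb⟩ := mem_zpowers_iff.1 (key i (mem_sup_right (mem_zpowers i)) (h1 ▸ h2))
  have k4 : g * e i * g⁻¹ * (g * e y * g⁻¹) = g * e y * g⁻¹ * (g * e i * g⁻¹) := by
    rw [← ha, ← hb]; exact zpow_mul_comm r b a
  rw [conj_mul, conj_mul, mul_left_inj, mul_right_inj, ← map_mul, ← map_mul, e.apply_eq_iff_eq, h4,
    mul_eq_left] at k4
  exact h2 k4

end CfsgLib.L3Z
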