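import Mathlib
import Cfsg.Agent.Lib.L3Z.Defs
import Cfsg.Agent.Lib.GHC.Bas
import Cfsg.Agent.Lib.ClAut.Desc1
import Cfsg.Agent.Lib.SL2.Torus
import Cfsg.Agent.Lib.Classical.SLBasic

/-! Involutory automorphisms of `SL₂(q)`, `q` odd. -/

set_option autoImplicit false
set_option linter.unusedSectionVars false

namespace CfsgLib.L3Z.T0

open Subgroup Cfsg CfsgLib.GHC CfsgLib.GHA CfsgLib.ClAut
open scoped MatrixGroups

variable {F : Type*} [Field F] [Fintype F]

/-- the fixed points of `α` -/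
def Fix (α : SL(2, F) ≃* SL(2, F)) : Subgroup SL(2, F) :=
  α.toMonoidHom.eqLocus (MonoidHom.id _)

theorem mem_Fix {α : SL(2, F) ≃* SL(2, F)} {a : SL(2, F)} : a ∈ Fix α ↔ α a = a := Iff.rfl

theorem tr_map (σ : F ≃+* F) (M : Matrix (Fin 2) (Fin 2) F) : (M.map σ).trace = σ M.trace := by
  simp [Matrix.trace_fin_two]

theorem map_map_eq {σ : F ≃+* F} (h : ∀ c, σ (σ c) = c) (M : Matrix (Fin 2) (Fin 2) F) :
    (M.map σ).map σ = M := by
  ext i j; exact h _

theorem tri0 (α : SL(2, F) ≃* SL(2, F)) (hα : ∀ a, α (α a) = a) :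
    (∀ a, α a = a) ∨
    (∃ g : GL (Fin 2) F, g.1.trace = 0 ∧ ∀ a, (α a).1 * g.1 = g.1 * a.1) ∨
    ∃ (c : GL (Fin 2) F) (σ : F ≃+* F), orderOf σ = 2 ∧
      ∀ a : SL(2, F), (α (cgE c a)).1 * c.1 = c.1 * a.1.map σ := by
  obtain ⟨g, σ, hg⟩ := PhanU.sl2_aut α
  have ht : ∀ a, (α a).1.trace = σ a.1.trace := fun a => by rw [tr_cg' (hg a), tr_map]
  have σσ : ∀ c, σ (σ c) = c := fun c => by
    obtain ⟨a, h1⟩ : ∃ a : SL(2, F), a.1.trace = c :=
      ⟨⟨!![c, -1; 1, 0], by simp [Matrix.det_fin_two]⟩, by simp⟩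
    rw [← h1, ← ht, ← ht, hα]
  have mm : ∀ M N : Matrix (Fin 2) (Fin 2) F, (M * N).map σ = M.map σ * N.map σ := fun M N =>
    Matrix.map_mul (f := σ.toRingHom)
  obtain ⟨l, hl⟩ : ∃ x : F, g.1 * g.1.map σ = x • (1 : Matrix (Fin 2) (Fin 2) F) :=
    scalar_of_cent fun a => by
      have h1 := hg (α a)
      have h2 := congrArg (fun M => M.map σ) (hg a)
      simp only [mm, map_map_eq σσ] at h2
      rw [hα] at h1
      rw [← mul_assoc, h1, mul_assoc, h2, mul_assoc]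
  by_cases hσ : σ = 1
  · subst hσ
    have e : ∀ M : Matrix (Fin 2) (Fin 2) F, M.map (1 : F ≃+* F) = M := fun M => by ext i j; rfl
    simp only [e] at hg hl
    by_cases h0 : g.1.trace = 0
    · exact Or.inr (Or.inl ⟨g, h0, hg⟩)
    refine Or.inl fun a => Subtype.ext (g.isUnit.mul_right_cancel ?_)
    have h1 : g.1 = ((l + g.1.det) / g.1.trace) • (1 : Matrix (Fin 2) (Fin 2) F) := by
      have h2 := sq_tr g.1
      rw [hl, eq_sub_iff_add_eq, ← add_smul] at h2
      rw [div_eq_inv_mul, mul_smul, h2, smul_smul, inv_mul_cancel₀ h0, one_smul]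
    rw [hg, h1, Matrix.mul_smul, Matrix.smul_mul, mul_one, one_mul]
  have : Fact (Nat.Prime 2) := ⟨Nat.prime_two⟩
  have o2 : orderOf σ = 2 := orderOf_eq_prime (RingEquiv.ext fun c => σσ c) hσ
  have hl' : g.1.map σ * g.1 = l • (1 : Matrix (Fin 2) (Fin 2) F) :=
    g.isUnit.mul_left_cancel (by
      rw [← mul_assoc, hl, Matrix.mul_smul, Matrix.smul_mul, mul_one, one_mul])
  have l1 : σ l = l := by
    have h2 := congrArg (fun M => M.map σ 0 0) hl
    simp only [mm, map_map_eq σσ, hl'] at h2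
    simpa using h2.symm
  have l0 : l ≠ 0 := by
    rintro rfl
    have h2 := congrArg Matrix.det hl
    rw [Matrix.det_mul, zero_smul, Matrix.det_zero, mul_eq_zero,
      show (g.1.map σ).det = σ g.1.det from (RingHom.map_det σ.toRingHom g.1).symm,
      map_eq_zero] at h2
    exact det_ne g (h2.elim id id)
  obtain ⟨μ, μ0, hμ⟩ := exists_nrm_eq σ l0 l1
  rw [o2, nrm_succ', nrm_succ', nrm_zero, map_one, mul_one] at hμ
  let T : (Fin 2 → F) →+ (Fin 2 → F) :=
    { toFun := fun v => μ⁻¹ • g.1.mulVec (fun i => σ (v i))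
      map_zero' := by simp [← Pi.zero_def]
      map_add' := fun v w => by
        rw [← smul_add, ← Matrix.mulVec_add]; congr 2; ext i; simp }
  have hT : ∀ v, T v = μ⁻¹ • g.1.mulVec (fun i => σ (v i)) := fun v => rfl
  have hm : ∀ (M : Matrix (Fin 2) (Fin 2) F) (v : Fin 2 → F),
      (fun i => σ (M.mulVec v i)) = (M.map σ).mulVec fun i => σ (v i) := fun M v => by
    ext i; simp [Matrix.mulVec, dotProduct]
  have sp := span_fixed_eq_top σ (by omega) T (fun c v => by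
      rw [hT, hT, smul_comm, ← Matrix.mulVec_smul, ← Matrix.mulVec_smul, ← Matrix.mulVec_smul]
      congr 1; ext i; simp) (fun v => by
      rw [o2]
      change T (T v) = v
      rw [hT, hT, show (fun i => σ ((μ⁻¹ • g.1.mulVec (fun i => σ (v i))) i)) =
        (σ μ)⁻¹ • (g.1.map σ).mulVec v by
          have := hm g.1 fun i => σ (v i)
          simp only [σσ] at this
          rw [← this]; ext i; simp,
        Matrix.mulVec_smul, Matrix.mulVec_mulVec, hl, Matrix.smul_mulVec, Matrix.one_mulVec,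
        smul_smul, smul_smul, ← hμ, show μ⁻¹ * (σ μ)⁻¹ * (μ * σ μ) = 1 by
          have := (map_ne_zero σ).2 μ0; field_simp, one_smul])
  obtain ⟨c, hc⟩ := exists_gl_of_span sp
  have h3 : g.1 * c.1.map σ = μ • c.1 := by
    ext i j
    have := congrFun (hc j : T _ = _) i
    rw [hT] at this
    simp only [Pi.smul_apply, smul_eq_mul, Matrix.mulVec, dotProduct] at this
    rw [Matrix.smul_apply, ← this, smul_eq_mul, ← mul_assoc, mul_inv_cancel₀ μ0, one_mul]
    rfl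
  refine Or.inr (Or.inr ⟨c, σ, o2, fun a => ?_⟩)
  have h4 := congrArg (· * c.1.map σ) (hg (cgE c a))
  simp only [mul_assoc, ← mm] at h4
  rw [h3, cgE_val, mul_assoc _ _ c.1, gl_inv_mul, mul_one, mm, ← mul_assoc, h3, Matrix.mul_smul,
    Matrix.smul_mul] at h4
  exact smul_right_injective _ μ0 h4

/-- the field case -/
theorem fix_fld {α : SL(2, F) ≃* SL(2, F)} {c : GL (Fin 2) F} {σ : F ≃+* F}
    (h : ∀ a : SL(2, F), (α (cgE c a)).1 * c.1 = c.1 * a.1.map σ) :
    Nonempty (SL(2, fixField σ) ≃* Fix α) := by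
  let j : SL(2, fixField σ) →* SL(2, F) :=
    (cgE c).toMonoidHom.comp (Matrix.SpecialLinearGroup.map (fixField σ).subtype)
  have e : ∀ a : SL(2, F), (cgE c a).1 * c.1 = c.1 * a.1 := fun a => by
    rw [cgE_val, mul_assoc, gl_inv_mul, mul_one]
  have hj : Function.Injective j := (cgE c).injective.comp fun a b hab => by
    ext i k
    exact congrArg (fun M : SL(2, F) => M i k) hab
  have hr : j.range = Fix α := by
    ext b
    obtain ⟨a, rfl⟩ := (cgE c).surjective b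
    constructor
    · rintro ⟨a', ha⟩
      obtain rfl : Matrix.SpecialLinearGroup.map (fixField σ).subtype a' = a := (cgE c).injective ha
      refine mem_Fix.2 (Subtype.ext (c.isUnit.mul_right_cancel ?_))
      rw [h, e]
      congr 1
      ext i k
      exact (a' i k).2
    · intro ha
      have h1 := h a
      rw [mem_Fix.1 ha, e] at h1
      have h2 := c.isUnit.mul_left_cancel h1
      let M : Matrix (Fin 2) (Fin 2) (fixField σ) :=
        Matrix.of fun i k => ⟨a.1 i k, (congrFun (congrFun h2 i) k).symm⟩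
      refine ⟨⟨M, Subtype.ext ?_⟩, congrArg (cgE c) (Subtype.ext rfl)⟩
      rw [Matrix.det_fin_two]
      have := a.2
      rwa [Matrix.det_fin_two] at this
  exact ⟨(MonoidHom.ofInjective hj).trans (MulEquiv.subgroupCongr hr)⟩

theorem fix_tor {α : SL(2, F) ≃* SL(2, F)} {g : GL (Fin 2) F}
    (h : ∀ a, (α a).1 * g.1 = g.1 * a.1) : Fix α = GHC.Tor g := by
  ext a
  exact cm_iff (h a)

theorem quat_three {K : Type*} [Field K] (h0 : (3 : K) = 0) :
    ∃ y i ρ : SL(2, K), y * y = -1 ∧ i * i = -1 ∧ y * i * y⁻¹ = i⁻¹ ∧ ρ ^ 3 = 1 ∧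
      ρ * y * ρ⁻¹ = i ∧ ρ * i * ρ⁻¹ = y * i := by
  obtain ⟨y, hy⟩ : ∃ y : SL(2, K), y.1 = !![0, -1; 1, 0] := ⟨⟨_, by simp [Matrix.det_fin_two]⟩, rfl⟩
  obtain ⟨i, hi⟩ : ∃ y : SL(2, K), y.1 = !![1, 1; 1, -1] :=
    ⟨⟨_, by rw [Matrix.det_fin_two_of]; linear_combination (-1) * h0⟩, rfl⟩
  obtain ⟨r, hr⟩ : ∃ y : SL(2, K), y.1 = !![1, 1; 0, 1] := ⟨⟨_, by simp⟩, rfl⟩
  refine ⟨y, i, r, ?_, ?_, ?_, ?_, ?_, ?_⟩
  all_goals
    try rw [mul_inv_eq_iff_eq_mul]
    try rw [eq_inv_mul_iff_mul_eq]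
    try rw [pow_succ, pow_two]
    apply Subtype.ext
    simp only [sl_mul, sl_neg, hy, hi, hr, Matrix.SpecialLinearGroup.coe_one]
    ext a b
    fin_cases a <;> fin_cases b <;> simp [Matrix.mul_apply, Fin.sum_univ_two] <;>
      first | exact h0 | linear_combination h0 | linear_combination (-1) * h0

variable (hF : Odd (Fintype.card F))
include hF

theorem card_Tor' {g : GL (Fin 2) F} (tr : g.1.trace = 0) :
    Nat.card (GHC.Tor g) + 1 = Fintype.card F ∨ Nat.card (GHC.Tor g) = Fintype.card F + 1 := by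
  by_cases e : IsSquare (-g.1.det)
  · rw [card_Tor_of_sq tr hF e]
    have := Fintype.card_pos (α := F)
    omega
  · exact Or.inr (card_Tor_of_nsq tr hF e)

theorem exists_tor (h3 : 3 < Fintype.card F) {g : GL (Fin 2) F} (tr : g.1.trace = 0) :
    ∃ t, Cm g t ∧ t ≠ 1 ∧ t ≠ -1 := by
  have h2 := GHA.two_ne_zero_of_odd hF
  obtain ⟨t, ht, h6⟩ := SetLike.not_le_iff_exists.1 fun e : GHC.Tor g ≤ center SL(2, F) => by
    have := card_le_of_le e
    rw [SL2.card_center_odd h2] at this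
    have := card_Tor' hF tr
    omega
  rw [SL2.mem_center_iff, not_or] at h6
  exact ⟨t, ht, h6⟩

theorem Tor_eq {g : GL (Fin 2) F} (tr : g.1.trace = 0) {t : SL(2, F)} (ht : Cm g t) (h1 : t ≠ 1)
    (h1' : t ≠ -1) : GHC.Tor g = centralizer {t} := by
  have h2 := GHA.two_ne_zero_of_odd hF
  ext a
  rw [mem_centralizer_singleton_iff]
  exact ⟨fun ha => Cm.comm h2 tr ha ht,
    fun ha => comm_of_comm h2 tr ht h1 h1' (congrArg Subtype.val ha)⟩

theorem isCyclic_Tor (h3 : 3 < Fintype.card F) {g : GL (Fin 2) F} (tr : g.1.trace = 0) :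
    IsCyclic (GHC.Tor g) := by
  have h2 := GHA.two_ne_zero_of_odd hF
  obtain ⟨t, ht, h1, h1'⟩ := exists_tor hF h3 tr
  have hc := card_Tor' hF tr
  rw [Tor_eq hF tr ht h1 h1'] at hc ⊢
  rcases SL2.types t with h | ⟨z, b, hz, hb, h⟩ | ⟨a, ha, h⟩ | h
  · exact absurd ((SL2.isScal_iff t).1 h) (not_or.2 ⟨h1, h1'⟩)
  · rw [SL2.card_centralizer_unip hz hb h, SL2.card_center_odd h2] at hc
    omega
  · exact SL2.isCyclic_centralizer_split ha h
  · exact h.isCyclic_centralizer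

/-- an automorphism that fixes the torus pointwise is induced by a matrix commuting with `g` -/
theorem aut_of_tor (h3 : 3 < Fintype.card F) {g : GL (Fin 2) F} (tr : g.1.trace = 0)
    (θ : SL(2, F) ≃* SL(2, F)) (h1 : ∀ a, Cm g a → θ a = a) :
    ∃ A : GL (Fin 2) F, A.1 * g.1 = g.1 * A.1 ∧ ∀ a, (θ a).1 * A.1 = A.1 * a.1 := by
  have h2 := GHA.two_ne_zero_of_odd hF
  obtain ⟨A, σ, hA⟩ := PhanU.sl2_aut θ
  have h4 : ∀ u, σ u = u := sigma_eq' h2 (det_ne g) σ fun x y e => by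
    have e1 := hA (comb tr x y e)
    rw [h1 _ (cm_comb tr x y e)] at e1
    have e2 := tr_cg' e1
    rw [tr_map] at e2
    change Matrix.trace (_ + _) = σ (Matrix.trace (_ + _)) at e2
    rw [tr_comb tr, map_mul, map_ofNat] at e2
    exact mul_left_cancel₀ h2 e2.symm
  have h5 : ∀ a : SL(2, F), (θ a).1 * A.1 = A.1 * a.1 := fun a => by
    rw [hA]; congr 1; ext k l; exact h4 _
  obtain ⟨t, ht, h6, h7⟩ := exists_tor hF h3 tr
  exact ⟨A, comm_of_comm h2 tr ht h6 h7 (by rw [← h5, h1 t ht]), h5⟩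

/-- two automorphisms that fix the torus pointwise commute -/
theorem comm_of_tor (h3 : 3 < Fintype.card F) {g : GL (Fin 2) F} (tr : g.1.trace = 0)
    (θ η : SL(2, F) ≃* SL(2, F)) (h1 : ∀ a, Cm g a → θ a = a) (h1' : ∀ a, Cm g a → η a = a)
    (a : SL(2, F)) : θ (η a) = η (θ a) := by
  have h2 := GHA.two_ne_zero_of_odd hF
  obtain ⟨A, cA, hA⟩ := aut_of_tor hF h3 tr θ h1
  obtain ⟨B, cB, hB⟩ := aut_of_tor hF h3 tr η h1'
  obtain ⟨x, y, eA⟩ := exists_comb h2 tr cA
  obtain ⟨u, v, eB⟩ := exists_comb h2 tr cB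
  have e : A.1 * B.1 = B.1 * A.1 := by
    rw [eA, eB]
    simp only [add_mul, mul_add, Matrix.mul_smul, Matrix.smul_mul, mul_one, one_mul, smul_add,
      smul_smul, mul_comm]
    abel
  refine Subtype.ext ((A * B).isUnit.mul_right_cancel ?_)
  rw [Units.val_mul, ← mul_assoc, hA, mul_assoc, hB, e, ← mul_assoc (η _).1, hB, mul_assoc, hA,
    ← mul_assoc, ← mul_assoc, e]

theorem tri (α : SL(2, F) ≃* SL(2, F)) (hα : ∀ a, α (α a) = a) :
    (∀ a, α a = a) ∨
    (∃ g : GL (Fin 2) F, g.1.trace = 0 ∧ (∀ a, (α a).1 * g.1 = g.1 * a.1) ∧ Fix α = GHC.Tor g) ∨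
    ∃ K : Subfield F, Fintype.card F = Nat.card K ^ 2 ∧ Nonempty (SL(2, K) ≃* Fix α) := by
  rcases tri0 α hα with h | ⟨g, h, h'⟩ | ⟨c, σ, h, h'⟩
  · exact Or.inl h
  · exact Or.inr (Or.inl ⟨g, h, h', fix_tor h'⟩)
  · refine Or.inr (Or.inr ⟨fixField σ, ?_, fix_fld h'⟩)
    rw [← h, ← card_eq_card_fixField_pow, Nat.card_eq_fintype_card]

/-- field type with solvable fixed points -/
theorem fld_nine {K : Subfield F} (hK : Fintype.card F = Nat.card K ^ 2) {H : Type*} [Group H]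
    (e : SL(2, K) ≃* H) (hs : Group.IsSolvable H) : Fintype.card F = 9 ∧ Nat.card H = 24 ∧
      ∃ y i ρ : SL(2, K), y * y = -1 ∧ i * i = -1 ∧ y * i * y⁻¹ = i⁻¹ ∧ ρ ^ 3 = 1 ∧
        ρ * y * ρ⁻¹ = i ∧ ρ * i * ρ⁻¹ = y * i := by
  have := Fintype.ofFinite K
  rw [Nat.card_eq_fintype_card] at hK
  have h4 : ¬ 4 ≤ Fintype.card K := fun h4 => by
    have : Group.IsSolvable SL(2, K) := Group.isSolvable_of_isSolvable_injective (f := e.toMonoidHom) e.injective
    have : Nontrivial SL(2, K) := ⟨⟨⟨!![1, 1; 0, 1], by simp⟩, 1, fun h => by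
      simpa using congrArg (fun M : SL(2, K) => M 0 1) h⟩⟩
    exact (Group.IsSolvable.commutator_lt_top_of_nontrivial SL(2, K)).ne
      (Classical.sl_fin_commutator_eq_top 2 le_rfl fun _ => h4)
  have h3 : Fintype.card K = 3 := by
    have h1 := Fintype.one_lt_card (α := K)
    rw [hK] at hF
    generalize Fintype.card K = m at *
    push Not at h4
    interval_cases m <;> revert hF <;> decide
  have h0 : (3 : K) = 0 := by
    have := FiniteField.cast_card_eq_zero K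
    rwa [h3] at this
  refine ⟨by rw [hK, h3]; rfl, by rw [← Nat.card_congr e.toEquiv, SL2.card_SL2, h3]; rfl,
    quat_three h0⟩

/-- an involutory automorphism that fixes a Sylow 2-subgroup pointwise is trivial -/
theorem eq_of_odd_index (α : SL(2, F) ≃* SL(2, F)) (hα : ∀ a, α (α a) = a)
    (ho : Odd (Fix α).index) (a : SL(2, F)) : α a = a := by
  have h1 := (Fix α).card_mul_index
  rw [SL2.card_SL2] at h1
  obtain ⟨n, hn⟩ := id hF
  have h0 := Fintype.one_lt_card (α := F)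
  rcases tri hF α hα with h | ⟨g, h, -, h'⟩ | ⟨K, hK, ⟨e⟩⟩
  · exact h a
  · exfalso
    have h2 := card_Tor' hF h
    rw [← h'] at h2
    have h3 : Fintype.card F ^ 2 - 1 = 2 * n * (2 * n + 2) := by
      rw [hn]; exact Nat.sub_eq_of_eq_add (by ring)
    rw [h3, hn] at h1
    rw [hn] at h2
    refine (Nat.not_even_iff_odd.2 ho) ?_
    rcases h2 with h2 | h2
    · rw [show Nat.card (Fix α) = 2 * n by omega] at h1
      exact ⟨(2 * n + 1) * (n + 1), Nat.eq_of_mul_eq_mul_left (show 0 < 2 * n by omega)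
        (by rw [h1]; ring)⟩
    · rw [h2] at h1
      exact ⟨(2 * n + 1) * n, Nat.eq_of_mul_eq_mul_left (show 0 < 2 * n + 1 + 1 by omega)
        (by rw [h1]; ring)⟩
  · exfalso
    have := Fintype.ofFinite K
    rw [Nat.card_eq_fintype_card] at hK
    rw [← Nat.card_congr e.toEquiv, SL2.card_SL2, hK] at h1
    have h2 := Fintype.one_lt_card (α := K)
    have h3 : Odd (Fintype.card K) := by
      rw [hK] at hF; exact (Nat.odd_pow_iff two_ne_zero).1 hF
    obtain ⟨m, hm⟩ := h3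
    rw [hm] at h1 h2
    have h4 : (2 * m + 1) ^ 2 - 1 = 2 * m * (2 * m + 2) := Nat.sub_eq_of_eq_add (by ring)
    have h5 : ((2 * m + 1) ^ 2) ^ 2 - 1 = 2 * m * (2 * m + 2) * (2 * (2 * m ^ 2 + 2 * m + 1)) :=
      Nat.sub_eq_of_eq_add (by ring)
    rw [h4, h5] at h1
    refine (Nat.not_even_iff_odd.2 ho) ⟨(2 * m + 1) * (2 * m ^ 2 + 2 * m + 1),
      Nat.eq_of_mul_eq_mul_left (show 0 < (2 * m + 1) * (2 * m * (2 * m + 2)) by
        have : 0 < m := by omega
        positivity) ?_⟩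
    rw [h1]; ring

section stub

variable {E : Type} [Field E] [Fintype E]
omit hF

theorem tri_stub (α : MulAut SL(2, E)) (h2 : α * α = 1) : α = 1 ∨ L3Z.Tor α ∨ Fld α := by
  rcases tri0 α (fun a => congrArg (· a) h2) with h | h | ⟨c, σ, h, h'⟩
  · exact Or.inl (MulEquiv.ext h)
  · exact Or.inr (Or.inl h)
  · obtain ⟨e⟩ := fix_fld h'
    let i := Fintype.ofFinite (fixField σ)
    refine Or.inr (Or.inr ⟨fixField σ, inferInstance, i,
      (Fix α).subtype.comp e.toMonoidHom, ?_, Subtype.val_injective.comp e.injective, fun s => ?_⟩)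
    · rw [← h, ← Nat.card_eq_fintype_card, ← Nat.card_eq_fintype_card, card_eq_card_fixField_pow σ]
    · exact ⟨fun hs => ⟨e.symm ⟨s, hs⟩, congrArg Subtype.val (e.apply_symm_apply _)⟩,
        fun ⟨a, ha⟩ => ha ▸ (e a).2⟩

theorem cyc_stub (hE : Odd (Fintype.card E)) (h3 : 3 < Fintype.card E) {α : MulAut SL(2, E)}
    (h : L3Z.Tor α) : ∃ c : SL(2, E), (orderOf c + 1 = Fintype.card E ∨ orderOf c = Fintype.card E + 1) ∧
      ∀ s, α s = s ↔ s ∈ zpowers c := by
  obtain ⟨g, tr, hg⟩ := h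
  obtain ⟨c, hc⟩ := (Subgroup.isCyclic_iff_exists_zpowers_eq_top _).1 (isCyclic_Tor hE h3 tr)
  refine ⟨c, ?_, fun s => ?_⟩
  · rw [← Nat.card_zpowers, hc]; exact card_Tor' hE tr
  · rw [hc, ← fix_tor hg]; rfl

end stub

end CfsgLib.L3Z.T0
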