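import Cfsg.Agent.Lib.L3Z.Defs
import Cfsg.Agent.Lib.SL2.Torus
import Cfsg.Agent.Lib.ABG.StrucA
import Cfsg.Agent.Lib.GHA.SL2
import Cfsg.Agent.Lib.GHA.Mat

/-! Standard `L₃(3)`, the sieve (plans/L3Z.md): involutory automorphisms of SL₂(q), II. -/

set_option autoImplicit false
set_option linter.unusedSectionVars false

namespace CfsgLib.L3Z

open Subgroup Cfsg CfsgLib.Tech CfsgLib.L33 CfsgLib.Sect
open scoped MatrixGroups commutatorElement

variable {F : Type} [Field F] [Fintype F]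

theorem Tor.fix_iff {α : MulAut SL(2, F)} {A : GL (Fin 2) F} (h : ∀ s : SL(2, F), (α s).1 * A.1 = A.1 * s.1)
    (s : SL(2, F)) : α s = s ↔ s.1 * A.1 = A.1 * s.1 := by
  constructor
  · intro e
    have := h s
    rwa [e] at this
  · intro e
    apply Subtype.ext
    have h1 : (α s).1 * A.1 = s.1 * A.1 := (h s).trans e.symm
    exact (Units.isUnit A).mul_right_cancel h1

theorem exists_good (h3 : 3 < Fintype.card F) (d : F) : ∃ m : F, m ≠ 0 ∧ 1 + d * m ^ 2 ≠ 0 := by
  classical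
  by_cases hx : ∃ m0 : F, 1 + d * m0 ^ 2 = 0
  · obtain ⟨m0, h0⟩ := hx
    have hc : ({0, m0, -m0} : Finset F).card < (Finset.univ : Finset F).card := by
      rw [Finset.card_univ]
      exact lt_of_le_of_lt Finset.card_le_three h3
    obtain ⟨m, -, hm⟩ := Finset.exists_mem_notMem_of_card_lt_card hc
    simp only [Finset.mem_insert, Finset.mem_singleton, not_or] at hm
    refine ⟨m, hm.1, fun e => ?_⟩
    have hd : d ≠ 0 := by
      rintro rfl
      simp at h0
    have h1 : d * ((m - m0) * (m + m0)) = 0 := by linear_combination e - h0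
    rcases mul_eq_zero.1 ((mul_eq_zero.1 h1).resolve_left hd) with h2 | h2
    · exact hm.2.1 (by linear_combination h2)
    · exact hm.2.2 (by linear_combination h2)
  · push Not at hx
    exact ⟨1, one_ne_zero, hx 1⟩

theorem cyc_of_tr {w : SL(2, F)} (hw : SL2.tr w ^ 2 ≠ 4) :
    ∃ c : SL(2, F), (orderOf c + 1 = Fintype.card F ∨ orderOf c = Fintype.card F + 1) ∧
      ∀ s, s * w = w * s ↔ s ∈ zpowers c := by
  have key : IsCyclic (centralizer ({w} : Set SL(2, F))) →
      ∃ c : SL(2, F), orderOf c = Nat.card (centralizer ({w} : Set SL(2, F))) ∧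
        ∀ s, s * w = w * s ↔ s ∈ zpowers c := by
    intro hc
    obtain ⟨c, hc⟩ := (Subgroup.isCyclic_iff_exists_zpowers_eq_top _).1 hc
    refine ⟨c, ?_, fun s => ?_⟩
    · rw [← hc, Nat.card_zpowers]
    · rw [hc, mem_centralizer_singleton_iff]
  rcases SL2.types w with h | ⟨z, b, hz, -, e⟩ | ⟨a, ha, e⟩ | h
  · exact absurd h.tr_sq hw
  · exact absurd (SL2.tr_of_isConj e ▸ SL2.tr_scal_mul_uu_sq hz b) hw
  · obtain ⟨c, h1, h2⟩ := key (SL2.isCyclic_centralizer_split ha e)
    refine ⟨c, Or.inl ?_, h2⟩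
    rw [h1, SL2.card_centralizer_split ha e]
    have : 0 < Fintype.card F := Fintype.card_pos
    omega
  · obtain ⟨c, h1, h2⟩ := key h.isCyclic_centralizer
    exact ⟨c, Or.inr (h1.trans h.card_centralizer), h2⟩

/-- The fixed points of an automorphism of torus type form a cyclic group of order `q ∓ 1`. -/
theorem Tor.cyc (hF : Odd (Fintype.card F)) (h3 : 3 < Fintype.card F) {α : MulAut SL(2, F)} (h : Tor α) :
    ∃ c : SL(2, F), (orderOf c + 1 = Fintype.card F ∨ orderOf c = Fintype.card F + 1) ∧ ∀ s, α s = s ↔ s ∈ zpowers c := by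
  obtain ⟨A, ht, hA⟩ := h
  have h2 := SL2.two_ne_zero_of_odd hF
  have hd : A.1.det ≠ 0 := (Matrix.isUnits_det_units A).ne_zero
  rw [Matrix.det_fin_two] at hd
  rw [Matrix.trace_fin_two] at ht
  obtain ⟨m, hm, hm'⟩ := exists_good h3 (A.1 0 0 * A.1 1 1 - A.1 0 1 * A.1 1 0)
  obtain ⟨u, v, hv, huv⟩ : ∃ u v : F, v ≠ 0 ∧ u ^ 2 + (A.1 0 0 * A.1 1 1 - A.1 0 1 * A.1 1 0) * v ^ 2 = 1 := by
    generalize A.1 0 0 * A.1 1 1 - A.1 0 1 * A.1 1 0 = d at hm' ⊢
    refine ⟨(1 - d * m ^ 2) / (1 + d * m ^ 2), 2 * m / (1 + d * m ^ 2), div_ne_zero (mul_ne_zero h2 hm) hm', ?_⟩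
    field_simp
    ring
  let w : SL(2, F) := SL2.mk2 (u + v * A.1 0 0) (v * A.1 0 1) (v * A.1 1 0) (u + v * A.1 1 1)
    (by linear_combination huv + u * v * ht)
  have hw : w.1 = u • (1 : Matrix (Fin 2) (Fin 2) F) + v • A.1 := by
    ext i j
    fin_cases i <;> fin_cases j <;> simp [w, SL2.mk2]
  have htr : SL2.tr w ^ 2 ≠ 4 := by
    intro e
    have e1 : SL2.tr w = (u + v * A.1 0 0) + (u + v * A.1 1 1) := rfl
    have e2 : SL2.tr w = 2 * u := by rw [e1]; linear_combination v * ht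
    rw [e2] at e
    have e3 : 2 * (2 * ((A.1 0 0 * A.1 1 1 - A.1 0 1 * A.1 1 0) * v ^ 2)) = 0 := by
      linear_combination 4 * huv - e
    exact mul_ne_zero h2 (mul_ne_zero h2 (mul_ne_zero hd (pow_ne_zero 2 hv))) e3
  obtain ⟨c, h1, hc⟩ := cyc_of_tr htr
  refine ⟨c, h1, fun s => ?_⟩
  have hx : s * w = w * s ↔ s.1 * w.1 = w.1 * s.1 := Subtype.ext_iff
  rw [← hc, Tor.fix_iff hA, hx, hw, mul_add, add_mul, Matrix.mul_smul, Matrix.mul_smul, Matrix.smul_mul, Matrix.smul_mul, mul_one, one_mul,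
    add_right_inj]
  exact ⟨fun e => by rw [e], fun e => smul_right_injective _ hv e⟩

theorem prop_of_comm (h2 : (2 : F) ≠ 0) {w : SL(2, F)} (hw : ¬ SL2.IsScal w) {A : Matrix (Fin 2) (Fin 2) F}
    (ht : A.trace = 0) (h : w.1 * A = A * w.1) :
    ∃ l : F, A = l • !![w 0 0 - w 1 1, 2 * w 0 1; 2 * w 1 0, w 1 1 - w 0 0] := by
  rw [Matrix.trace_fin_two] at ht
  have e00 := congrFun (congrFun h 0) 0
  have e01 := congrFun (congrFun h 0) 1
  have e10 := congrFun (congrFun h 1) 0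
  simp only [Matrix.mul_apply, Fin.sum_univ_two] at e00 e01 e10
  have key : ∀ l : F, A 0 0 = l * (w 0 0 - w 1 1) → A 0 1 = l * (2 * w 0 1) → A 1 0 = l * (2 * w 1 0) →
      ∃ l : F, A = l • !![w 0 0 - w 1 1, 2 * w 0 1; 2 * w 1 0, w 1 1 - w 0 0] := by
    intro l a b c
    refine ⟨l, ?_⟩
    ext i j
    fin_cases i <;> fin_cases j
    · simpa using a
    · simpa using b
    · simpa using c
    · have : A 1 1 = l * (w 1 1 - w 0 0) := by linear_combination ht - a
      simpa using this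
  by_cases b0 : w 0 1 = 0
  · by_cases c0 : w 1 0 = 0
    · have hd : w 0 0 - w 1 1 ≠ 0 := fun e => hw ⟨b0, c0, sub_eq_zero.1 e⟩
      refine key (A 0 0 / (w 0 0 - w 1 1)) (by field_simp) ?_ ?_
      · apply mul_left_cancel₀ hd
        field_simp
        linear_combination e01 - w 0 1 * ht
      · apply mul_left_cancel₀ hd
        field_simp
        linear_combination -e10 - w 1 0 * ht
    · refine key (A 1 0 / (2 * w 1 0)) ?_ ?_ (by field_simp)
      · field_simp
        linear_combination e10 + w 1 0 * ht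
      · field_simp
        linear_combination -e00
  · refine key (A 0 1 / (2 * w 0 1)) ?_ (by field_simp) ?_
    · field_simp
      linear_combination -e01 + w 0 1 * ht
    · field_simp
      linear_combination e00

/-- Two automorphisms of torus type fixing a common non-scalar element coincide. -/
theorem Tor.eq (hF : Odd (Fintype.card F)) {α β : MulAut SL(2, F)} (h : Tor α) (h' : Tor β) {w : SL(2, F)}
    (h1 : α w = w) (h2 : β w = w) (w1 : w ≠ 1) (w2 : w ≠ -1) : α = β := by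
  obtain ⟨A, ht, hA⟩ := h
  obtain ⟨B, ht', hB⟩ := h'
  have t2 := SL2.two_ne_zero_of_odd hF
  have hw : ¬ SL2.IsScal w := fun e => ((SL2.isScal_iff w).1 e).elim w1 w2
  obtain ⟨l, hl⟩ := prop_of_comm t2 hw ht ((Tor.fix_iff hA w).1 h1)
  obtain ⟨k, hk⟩ := prop_of_comm t2 hw ht' ((Tor.fix_iff hB w).1 h2)
  have hl0 : l ≠ 0 := by
    rintro rfl
    rw [zero_smul] at hl
    exact A.ne_zero hl
  have e : B.1 = (k / l) • A.1 := by
    rw [hl, hk, smul_smul, div_mul_cancel₀ _ hl0]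
  ext1 s
  apply Subtype.ext
  apply (Units.isUnit B).mul_right_cancel
  rw [hB s, e, Matrix.mul_smul, Matrix.smul_mul, hA s]

/-- `SL₂(3)`: the quaternion group with an element of order three, and the exponent. -/
theorem sl2_three (h : Fintype.card F = 3) : (∃ a b c : SL(2, F), a * a = -1 ∧ b * b = -1 ∧ a * b = -(b * a) ∧
    c * a * c⁻¹ = b ∧ c * b * c⁻¹ = a * b) ∧ ∀ s : SL(2, F), s ^ 24 = 1 := by
  have h3 : (3 : F) = 0 := by
    have := FiniteField.cast_card_eq_zero F
    rw [h] at this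
    exact_mod_cast this
  refine ⟨⟨SL2.mk2 0 (-1) 1 0 (by ring), SL2.mk2 1 (-2) 1 (-1) (by ring), SL2.mk2 1 1 0 1 (by ring),
    ?_, ?_, ?_, ?_, ?_⟩, fun s => ?_⟩
  · apply SL2.ext2 <;> simp only [SL2.mul_ap, SL2.neg_ap, SL2.mk2_00, SL2.mk2_01, SL2.mk2_10, SL2.mk2_11, SL2.one_00,
      SL2.one_01, SL2.one_10, SL2.one_11] <;>
      first | ring1 | linear_combination h3 | linear_combination -h3
  · apply SL2.ext2 <;> simp only [SL2.mul_ap, SL2.neg_ap, SL2.mk2_00, SL2.mk2_01, SL2.mk2_10, SL2.mk2_11, SL2.one_00,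
      SL2.one_01, SL2.one_10, SL2.one_11] <;>
      first | ring1 | linear_combination h3 | linear_combination -h3
  · apply SL2.ext2 <;> simp only [SL2.mul_ap, SL2.neg_ap, SL2.mk2_00, SL2.mk2_01, SL2.mk2_10, SL2.mk2_11, SL2.one_00,
      SL2.one_01, SL2.one_10, SL2.one_11] <;>
      first | ring1 | linear_combination h3 | linear_combination -h3
  · rw [mul_inv_eq_iff_eq_mul]
    apply SL2.ext2 <;> simp only [SL2.mul_ap, SL2.neg_ap, SL2.mk2_00, SL2.mk2_01, SL2.mk2_10, SL2.mk2_11, SL2.one_00,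
      SL2.one_01, SL2.one_10, SL2.one_11] <;>
      first | ring1 | linear_combination h3 | linear_combination -h3
  · rw [mul_inv_eq_iff_eq_mul]
    apply SL2.ext2 <;> simp only [SL2.mul_ap, SL2.neg_ap, SL2.mk2_00, SL2.mk2_01, SL2.mk2_10, SL2.mk2_11, SL2.one_00,
      SL2.one_01, SL2.one_10, SL2.one_11] <;>
      first | ring1 | linear_combination h3 | linear_combination -h3
  · have hc : Nat.card SL(2, F) = 24 := by rw [SL2.card_SL2, h]; rfl
    rw [← hc]
    exact pow_card_eq_one'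

/-- Two anticommuting elements of order four. -/
theorem sl2_q8 (hF : Odd (Fintype.card F)) : ∃ a b : SL(2, F), a * a = -1 ∧ b * b = -1 ∧ a * b = -(b * a) := by
  obtain ⟨w, h1, h2⟩ := GHA.exists_anti hF (GHA.wn_wn (F := F))
  refine ⟨w, GHA.wn F, h1, GHA.wn_wn, ?_⟩
  rw [mul_inv_eq_iff_eq_mul, GHA.wn_inv, neg_mul] at h2
  exact h2

/-- A nontrivial image of the perfect group `SL₂(q)`, `q > 3`, is not solvable. -/
theorem not_solv {G : Type*} [Group G] (h3 : 3 < Fintype.card F) (f : SL(2, F) →* G) {H : Subgroup G}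
    (hs : Group.IsSolvable H) (h : ∀ a, f a ∈ H) (a : SL(2, F)) : f a = 1 := by
  obtain ⟨n, hn⟩ := hs.solvable
  have hp := ABG.St.sl2_perfect h3
  have key : ∀ k : ℕ, derivedSeries SL(2, F) k = ⊤ := by
    intro k
    induction k with
    | zero => rfl
    | succ k ih => rw [derivedSeries_succ, ih]; exact hp
  have h1 := map_derivedSeries_le_derivedSeries (f.codRestrict H h) n
  rw [key, hn] at h1
  have h2 := mem_bot.1 (h1 (mem_map_of_mem _ (mem_top a)))
  exact congrArg Subtype.val h2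

end CfsgLib.L3Z
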